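import Groth.Agent.SteinBound.Fibre
import Groth.Agent.SteinPtLib.Conn

/-!
# Bounds on connected components of fibres
-/

set_option autoImplicit false
set_option linter.style.haveILetI false
set_option linter.unusedSectionVars false
set_option backward.isDefEq.respectTransparency false
set_option backward.isDefEq.respectTransparency.types false
set_option maxHeartbeats 1000000

universe u

open CategoryTheory CategoryTheory.Limits AlgebraicGeometry TopologicalSpace

noncomputable section

namespace Groth.Agent.SteinBound

variable {X Y : Scheme.{u}} [IsIntegral X] [IsIntegral Y] [IsLocallyNoetherian Y]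

theorem surjective_of_generic (f : X ⟶ Y) [UniversallyClosed f] (hη : f (genericPoint X) = genericPoint Y) :
    Surjective f :=
  ⟨fun y => by
    have h1 : y ∈ closure {genericPoint Y} := by
      rw [show closure {genericPoint Y} = Set.univ from genericPoint_spec Y]; trivial
    have h2 : y ∈ closure (Set.range f) := closure_mono (show {genericPoint Y} ⊆ Set.range f by rintro _ rfl; exact ⟨_, hη⟩) h1
    rwa [f.isClosedMap.isClosed_range.closure_eq] at h2⟩

/-- Fibre components are bounded by the maximal ideals of the integral closure of the local ring. -/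
theorem mk_components_le_maximal (f : X ⟶ Y) [IsProper f] (y : Y) (hy : f.base (genericPoint X) ⤳ y) :
    Cardinal.mk (_root_.ConnectedComponents ↥(f.fiber y)) ≤
      Cardinal.mk (MaximalSpectrum ↥(CohIII.integralClosureStalk f y hy)) := by
  haveI := S1297.result f
  haveI := SteinLib.isProper_toNormalization f
  haveI := SteinLib.geometricallyConnected_toNormalization_general f
  haveI : Surjective f.toNormalization :=
    surjective_of_isDominant_of_isClosed_range _ f.toNormalization.isClosedMap.isClosed_range
  have key : ∀ (f' : X ⟶ Y), f.toNormalization ≫ f.fromNormalization = f' →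
      ∀ hy' : f'.base (genericPoint X) ⤳ y,
      Cardinal.mk (_root_.ConnectedComponents ↥(f'.fiber y)) ≤
        Cardinal.mk (MaximalSpectrum ↥(CohIII.integralClosureStalk f' y hy')) := by
    rintro f' rfl hy'
    refine (mk_components_le f.toNormalization f.fromNormalization y).trans
      (mk_preimage_le f.toNormalization f.fromNormalization ?_ y hy')
    have h1 : IsGenericPoint (f.toNormalization (genericPoint X)) (closure (f.toNormalization '' Set.univ)) :=
      (genericPoint_spec X).image f.toNormalization.continuous
    rw [Set.image_univ, f.toNormalization.surjective.range_eq, closure_univ] at h1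
    exact h1.eq (genericPoint_spec _)
  exact key f f.toNormalization_fromNormalization hy

/-- Over a unibranch point the fibre components are bounded by the separable degree of the algebraic closure. -/
theorem mk_components_le_sepDegree (f : X ⟶ Y) [IsProper f] (hdom : f.base (genericPoint X) ⤳ genericPoint Y)
    [Algebra Y.functionField X.functionField]
    (halg : algebraMap Y.functionField X.functionField = CohIII.stalkToFunctionField f (genericPoint Y) hdom)
    (n : ℕ) (hn0 : 0 < n)
    (hn : Field.finSepDegree Y.functionField ↥(algebraicClosure Y.functionField X.functionField) = n)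
    (y : Y) (hy : CAlg2.IsUnibranch (Y.presheaf.stalk y)) :
    Cardinal.mk (_root_.ConnectedComponents ↥(f.fiber y)) ≤ n ∧ Nonempty ↥(f.fiber y) := by
  have hη : f (genericPoint X) = genericPoint Y :=
    (hdom.antisymm ((genericPoint_spec Y).specializes (Set.mem_univ _))).eq
  haveI := surjective_of_generic f hη
  refine ⟨?_, ?_⟩
  swap
  · obtain ⟨x, hx⟩ := f.surjective y
    exact ⟨(f.fiberHomeo y).symm ⟨x, hx⟩⟩
  have hsp : genericPoint Y ⤳ y := (genericPoint_spec Y).specializes (Set.mem_univ y)
  have hyX : f.base (genericPoint X) ⤳ y := hdom.trans hsp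
  refine (mk_components_le_maximal f y hyX).trans ?_
  let A := Y.presheaf.stalk y
  let φ := CohIII.stalkToFunctionField f y hyX
  letI : Algebra A X.functionField := φ.toAlgebra
  haveI : IsScalarTower A Y.functionField X.functionField := IsScalarTower.of_algebraMap_eq fun a => by
    rw [halg]
    show f.stalkMap (genericPoint X) (Y.presheaf.stalkSpecializes hyX a) =
      f.stalkMap (genericPoint X) (Y.presheaf.stalkSpecializes hdom (Y.presheaf.stalkSpecializes hsp a))
    refine congrArg (fun t => f.stalkMap (genericPoint X) t) ?_
    erw [← CommRingCat.comp_apply, TopCat.Presheaf.stalkSpecializes_comp]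
  let K := algebraicClosure Y.functionField X.functionField
  haveI : Algebra.IsAlgebraic Y.functionField K := algebraicClosure.isAlgebraic _ _
  let ι : integralClosure A K →ₐ[A] integralClosure A X.functionField :=
    (K.val.restrictScalars A).mapIntegralClosure
  have hι : Function.Bijective ι := by
    refine ⟨fun a b h => Subtype.ext (K.val.injective (congrArg (fun t : integralClosure A X.functionField => t.1) h)), fun x => ?_⟩
    have hx : IsIntegral A x.1 := x.2
    have hxK : x.1 ∈ K := mem_algebraicClosure_iff'.2 (hx.tower_top)
    exact ⟨⟨⟨x.1, hxK⟩, (isIntegral_algHom_iff (K.val.restrictScalars A) K.val.injective).1 hx⟩, rfl⟩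
  let e := (AlgEquiv.ofBijective ι hι).toRingEquiv
  refine le_trans ?_ (cardinal_maximal_le (isLocalRing_integralClosure (F := Y.functionField) hy) n hn0 hn)
  refine Cardinal.mk_le_of_injective
    (f := fun P : MaximalSpectrum (integralClosure A X.functionField) =>
      (⟨P.asIdeal.comap e.toRingHom,
        haveI := P.isMaximal
        Ideal.comap_isMaximal_of_surjective _ e.surjective⟩ : MaximalSpectrum (integralClosure A K)))
    fun P Q h => MaximalSpectrum.ext (Ideal.comap_injective_of_surjective _ e.surjective (congrArg MaximalSpectrum.asIdeal h))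

theorem finite_and_card_le {α : Type u} {n : ℕ} (h : Cardinal.mk α ≤ n) : Finite α ∧ Nat.card α ≤ n := by
  haveI : Finite α := Cardinal.lt_aleph0_iff_finite.1 (h.trans_lt Cardinal.natCast_lt_aleph0)
  exact ⟨inferInstance, Nat.cast_le.1 (le_of_eq_of_le (Nat.cast_card (α := α)) h)⟩

/-- Zariski's connectedness theorem at a unibranch point. -/
theorem connectedSpace_fiber (f : X ⟶ Y) [IsProper f] (hdom : f.base (genericPoint X) ⤳ genericPoint Y)
    (hrad : ∀ x : X.functionField, (∃ q : Polynomial Y.functionField, q ≠ 0 ∧
        Polynomial.eval₂ (CohIII.stalkToFunctionField f (genericPoint Y) hdom) x q = 0) →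
      ∃ e : ℕ, x ^ (ringExpChar X.functionField ^ e) ∈
        Set.range (CohIII.stalkToFunctionField f (genericPoint Y) hdom))
    (y : Y) (hy : CAlg2.IsUnibranch (Y.presheaf.stalk y)) : ConnectedSpace ↥(f.fiber y) := by
  letI : Algebra Y.functionField X.functionField :=
    (CohIII.stalkToFunctionField f (genericPoint Y) hdom).toAlgebra
  let K := algebraicClosure Y.functionField X.functionField
  obtain ⟨q, hq⟩ : ∃ q, ExpChar Y.functionField q := ⟨ringExpChar Y.functionField, inferInstance⟩
  haveI := hq
  haveI : ExpChar X.functionField q := expChar_of_injective_ringHom (algebraMap Y.functionField X.functionField).injective q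
  haveI : IsPurelyInseparable Y.functionField K := (isPurelyInseparable_iff_pow_mem _ q).2 fun x => by
    obtain ⟨p, hp0, hp⟩ := mem_algebraicClosure_iff.1 x.2
    obtain ⟨e, v, hv⟩ := hrad x.1 ⟨p, hp0, hp⟩
    rw [ringExpChar.eq X.functionField q] at hv
    exact ⟨e, v, Subtype.ext hv⟩
  obtain ⟨h1, h2⟩ := mk_components_le_sepDegree f hdom rfl 1 one_pos
    (IsPurelyInseparable.finSepDegree_eq_one _ _) y hy
  haveI := h2
  rw [connectedSpace_iff_connectedComponent]
  obtain ⟨z⟩ := h2
  refine ⟨z, Set.eq_univ_of_forall fun w => ?_⟩
  rw [← ConnectedComponents.coe_eq_coe']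
  rw [Nat.cast_one, Cardinal.le_one_iff_subsingleton] at h1
  exact h1.elim _ _

end Groth.Agent.SteinBound
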