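import Mathlib
import Groth.Prelude.Def_CAlg2

/-!
# Maximal ideals of integral closures over unibranch local domains
-/

set_option autoImplicit false
set_option linter.style.haveILetI false
set_option linter.unusedSectionVars false
set_option backward.isDefEq.respectTransparency false
set_option backward.isDefEq.respectTransparency.types false

universe u

noncomputable section

namespace Groth.Agent.SteinBound

open IsLocalRing Pointwise

set_option maxHeartbeats 1000000
set_option synthInstance.maxHeartbeats 400000

/-- The normalisation of a unibranch local domain is a local ring. -/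
theorem isLocalRing_integralClosure {A F : Type u} [CommRing A] [IsDomain A] [IsLocalRing A] [Field F]
    [Algebra A F] [IsFractionRing A F] (h : CAlg2.IsUnibranch A) : IsLocalRing (integralClosure A F) := by
  obtain ⟨hdom, hloc⟩ := h
  haveI := hdom
  haveI := hloc
  let π : A →+* CAlg2.red A := Ideal.Quotient.mk (nilradical A)
  have hπ : Function.Bijective π :=
    ⟨(RingHom.injective_iff_ker_eq_bot π).2 (by rw [Ideal.mk_ker]; exact nilradical_eq_zero A), Ideal.Quotient.mk_surjective⟩
  let e₀ : A ≃+* CAlg2.red A := RingEquiv.ofBijective π hπ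
  let eK : F ≃+* FractionRing (CAlg2.red A) := IsFractionRing.ringEquivOfRingEquiv e₀
  have heK : ∀ a, eK (algebraMap A F a) = algebraMap (CAlg2.red A) (FractionRing (CAlg2.red A)) (π a) :=
    fun a => IsFractionRing.ringEquivOfRingEquiv_algebraMap e₀ a
  let j : integralClosure A F →+* CAlg2.normRed A :=
    { toFun := fun z => ⟨eK z.1, by
        obtain ⟨P, hP, hz⟩ := (z.2 : IsIntegral A z.1)
        refine ⟨P.map π, hP.map _, ?_⟩
        rw [Polynomial.eval₂_map, show (algebraMap (CAlg2.red A) (FractionRing (CAlg2.red A))).comp π =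
          eK.toRingHom.comp (algebraMap A F) from RingHom.ext fun a => (heK a).symm]
        exact (Polynomial.hom_eval₂ P (algebraMap A F) eK.toRingHom z.1).symm.trans ((congrArg eK hz).trans (map_zero _))⟩
      map_one' := Subtype.ext (map_one eK)
      map_mul' := fun a b => Subtype.ext (map_mul eK _ _)
      map_zero' := Subtype.ext (map_zero eK)
      map_add' := fun a b => Subtype.ext (map_add eK _ _) }
  have hj : Function.Bijective j := by
    refine ⟨fun a b hab => Subtype.ext (eK.injective (congrArg Subtype.val hab)), fun w => ?_⟩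
    obtain ⟨P, hP, hw⟩ := (w.2 : IsIntegral (CAlg2.red A) w.1)
    refine ⟨⟨eK.symm w.1, P.map e₀.symm.toRingHom, hP.map _, ?_⟩, Subtype.ext (eK.apply_symm_apply _)⟩
    rw [Polynomial.eval₂_map, show (algebraMap A F).comp e₀.symm.toRingHom =
      eK.symm.toRingHom.comp (algebraMap (CAlg2.red A) (FractionRing (CAlg2.red A))) from RingHom.ext fun a => by
        show algebraMap A F (e₀.symm a) = eK.symm (algebraMap _ _ a)
        rw [RingEquiv.eq_symm_apply, heK]
        exact congrArg _ (e₀.apply_symm_apply a)]
    exact (Polynomial.hom_eval₂ P _ eK.symm.toRingHom w.1).symm.trans ((congrArg eK.symm hw).trans (map_zero _))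
  exact (RingEquiv.ofBijective j hj).symm.isLocalRing

section

variable {A : Type u} [CommRing A] {F L : Type u} [Field F] [Field L] [Algebra A F] [Algebra F L] [Algebra A L]
  [IsScalarTower A F L]

/-- Galois conjugation moves any two primes with the same trace on the base normalisation to each other. -/
theorem exists_galois_comap_eq [FiniteDimensional F L] [IsGalois F L] (P Q : Ideal (integralClosure A L))
    [P.IsPrime] [Q.IsPrime]
    (h : P.comap ((IsScalarTower.toAlgHom A F L).mapIntegralClosure).toRingHom =
      Q.comap ((IsScalarTower.toAlgHom A F L).mapIntegralClosure).toRingHom) :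
    ∃ g : L ≃ₐ[F] L, Q.comap ((g.toAlgHom.restrictScalars A).mapIntegralClosure).toRingHom = P := by
  let ι := (IsScalarTower.toAlgHom A F L).mapIntegralClosure
  letI : Algebra (integralClosure A F) (integralClosure A L) := ι.toRingHom.toAlgebra
  letI : MulSemiringAction (L ≃ₐ[F] L) (integralClosure A L) :=
    { smul := fun g x => (g.toAlgHom.restrictScalars A).mapIntegralClosure x
      one_smul := fun x => Subtype.ext rfl
      mul_smul := fun g h x => Subtype.ext rfl
      smul_zero := fun g => map_zero _
      smul_add := fun g x y => map_add _ x y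
      smul_one := fun g => map_one _
      smul_mul := fun g x y => map_mul _ x y }
  haveI : SMulCommClass (L ≃ₐ[F] L) (integralClosure A F) (integralClosure A L) := ⟨fun g a x => by
    apply Subtype.ext
    show g (algebraMap F L a.1 * x.1) = algebraMap F L a.1 * g x.1
    rw [map_mul, AlgEquiv.commutes]⟩
  haveI : Algebra.IsInvariant (integralClosure A F) (integralClosure A L) (L ≃ₐ[F] L) := ⟨fun b hb => by
    obtain ⟨c, hc⟩ := (IsGalois.mem_range_algebraMap_iff_fixed b.1).2 fun g => congrArg Subtype.val (hb g)
    refine ⟨⟨c, ?_⟩, Subtype.ext hc⟩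
    have hb' : IsIntegral A b.1 := b.2
    rw [← hc] at hb'
    exact (isIntegral_algHom_iff (IsScalarTower.toAlgHom A F L) (algebraMap F L).injective).1 hb'⟩
  obtain ⟨g, hg⟩ := Algebra.IsInvariant.exists_smul_of_under_eq (integralClosure A F) (integralClosure A L)
    (L ≃ₐ[F] L) P Q h
  refine ⟨g, Ideal.ext fun x => ?_⟩
  have : g • x ∈ g • P ↔ x ∈ P := Ideal.smul_mem_pointwise_smul_iff
  rw [← hg] at this
  exact this

end

variable {A : Type u} [CommRing A] [IsLocalRing A] {F K : Type u} [Field F] [Field K] [Algebra A F] [Algebra F K]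
  [Algebra A K] [IsScalarTower A F K] [Algebra.IsAlgebraic F K]

theorem cardinal_maximal_le (hA : IsLocalRing (integralClosure A F)) (n : ℕ) (hn0 : 0 < n)
    (hn : Field.finSepDegree F K = n) : Cardinal.mk (MaximalSpectrum (integralClosure A K)) ≤ n := by
  haveI := hA
  let Ks := separableClosure F K
  have hrank : Module.rank F Ks = (n : Cardinal) := by
    have h1 : Field.sepDegree F K = Module.rank F Ks := rfl
    have h2 := Field.finSepDegree_eq F K
    rw [hn, h1] at h2
    rcases lt_or_ge (Module.rank F Ks) Cardinal.aleph0 with h3 | h3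
    · rw [h2, Cardinal.cast_toNat_of_lt_aleph0 h3]
    · rw [Cardinal.toNat_apply_of_aleph0_le h3] at h2
      omega
  haveI : FiniteDimensional F Ks := Module.finite_of_rank_eq_nat hrank
  have hfin : Module.finrank F Ks = n := Module.finrank_eq_of_rank_eq hrank
  haveI : Algebra.IsSeparable F Ks := separableClosure.isSeparable F K
  let L := IntermediateField.normalClosure F Ks (SeparableClosure F)
  haveI : Algebra.IsSeparable F L := Algebra.isSeparable_tower_bot_of_isSeparable F L (SeparableClosure F)
  haveI : IsGalois F L := ⟨⟩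
  let σ₀ : Ks →ₐ[F] L := Classical.choice (by
    obtain ⟨φ⟩ := (⟨IsSepClosed.lift⟩ : Nonempty (Ks →ₐ[F] SeparableClosure F))
    exact ⟨φ.codRestrict L.toSubalgebra fun x => AlgHom.fieldRange_le_normalClosure φ ⟨x, rfl⟩⟩)
  let C := integralClosure A L
  obtain ⟨P₀, hP₀⟩ := Ideal.exists_maximal C
  let B := integralClosure A K
  let Bs := integralClosure A Ks
  let ι : Bs →+* B := (Ks.val.restrictScalars A).mapIntegralClosure.toRingHom
  obtain ⟨q, hq⟩ : ∃ q, ExpChar F q := ⟨ringExpChar F, inferInstance⟩
  haveI := hq
  have key : ∀ P : MaximalSpectrum B, ∃ σ : Ks →ₐ[F] L,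
      P.asIdeal.comap ι = P₀.comap (σ.restrictScalars A).mapIntegralClosure.toRingHom := fun P => by
    let j := (σ₀.restrictScalars A).mapIntegralClosure.toRingHom
    letI : Algebra Bs C := j.toAlgebra
    haveI : IsScalarTower A Bs C := IsScalarTower.of_algebraMap_eq fun a =>
      ((σ₀.restrictScalars A).mapIntegralClosure.commutes a).symm
    haveI : Algebra.IsIntegral Bs C := ⟨fun c => IsIntegral.tower_top (R := A) (Algebra.IsIntegral.isIntegral c)⟩
    haveI : (P.asIdeal.comap ι).IsPrime := Ideal.IsPrime.comap _
    obtain ⟨Q, -, hQp, hQ⟩ := Ideal.exists_ideal_over_prime_of_isIntegral (P.asIdeal.comap ι) (⊥ : Ideal C) (by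
      intro x hx
      have h0 : j x = 0 := hx
      have : x = 0 := Subtype.ext (σ₀.toRingHom.injective ((congrArg Subtype.val h0).trans (map_zero σ₀).symm))
      rw [this]
      exact Ideal.zero_mem _)
    haveI := hQp
    haveI : P.asIdeal.IsMaximal := P.isMaximal
    haveI : Algebra.IsIntegral A B := inferInstance
    have hA' : ∀ (R : Type u) [CommRing R] [Algebra A R] [Algebra.IsIntegral A R] (f : integralClosure A F →ₐ[A] R)
        (M : Ideal R) [M.IsMaximal], M.comap f.toRingHom = maximalIdeal _ := fun R _ _ _ f M _ => by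
      haveI : (M.comap f.toRingHom).IsPrime := Ideal.IsPrime.comap _
      refine IsLocalRing.eq_maximalIdeal (Ideal.isMaximal_of_isIntegral_of_isMaximal_comap (R := A) _ ?_)
      rw [Ideal.comap_comap]
      erw [f.comp_algebraMap]
      exact Ideal.isMaximal_comap_of_isIntegral_of_isMaximal M
    haveI hQm : Q.IsMaximal := Ideal.isMaximal_of_isIntegral_of_isMaximal_comap (R := Bs) _ (by
      rw [hQ]
      refine Ideal.isMaximal_of_isIntegral_of_isMaximal_comap (R := A) _ ?_
      rw [Ideal.comap_comap]
      show (Ideal.comap ((Ks.val.restrictScalars A).mapIntegralClosure.toRingHom.comp (algebraMap A Bs)) P.asIdeal).IsMaximal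
      erw [(Ks.val.restrictScalars A).mapIntegralClosure.comp_algebraMap]
      exact Ideal.isMaximal_comap_of_isIntegral_of_isMaximal P.asIdeal)
    obtain ⟨g, hg⟩ := exists_galois_comap_eq (A := A) (F := F) Q P₀
      ((hA' C _ Q).trans (hA' C _ P₀).symm)
    refine ⟨g.toAlgHom.comp σ₀, ?_⟩
    rw [← hQ, ← hg]
    rfl
  choose σ hσ using key
  have hinj : Function.Injective σ := fun P P' h => by
    have hPP : P.asIdeal.comap ι = P'.asIdeal.comap ι := by rw [hσ P, hσ P', h]
    haveI : P.asIdeal.IsPrime := P.isMaximal.isPrime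
    haveI : P'.asIdeal.IsPrime := P'.isMaximal.isPrime
    refine MaximalSpectrum.ext (Ideal.ext fun x => ?_)
    obtain ⟨e, y, hy⟩ := IsPurelyInseparable.pow_mem Ks q x.1
    have hyi : IsIntegral A y := by
      have : IsIntegral A (algebraMap Ks K y) := hy ▸ (IsIntegral.pow (x.2 : IsIntegral A x.1) _)
      exact (isIntegral_algHom_iff (Ks.val.restrictScalars A) Ks.val.injective).1 this
    have hx : ι ⟨y, hyi⟩ = x ^ q ^ e := Subtype.ext hy
    have hpos : 0 < q ^ e := pow_pos (expChar_pos F q) e
    have h1 : ∀ (Pr : Ideal B), Pr.IsPrime → (x ∈ Pr ↔ (⟨y, hyi⟩ : Bs) ∈ Pr.comap ι) := fun Pr hPr => by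
      rw [Ideal.mem_comap, hx]
      exact (hPr.pow_mem_iff_mem _ hpos).symm
    rw [h1 _ inferInstance, h1 _ inferInstance, hPP]
  haveI : Finite (Ks →ₐ[F] L) := inferInstance
  haveI := Fintype.ofFinite (Ks →ₐ[F] L)
  refine (Cardinal.mk_le_of_injective hinj).trans ?_
  rw [Cardinal.mk_fintype, Nat.cast_le, ← hfin]
  rw [← Nat.card_eq_fintype_card]
  exact card_algHom_le_finrank F Ks L

end Groth.Agent.SteinBound
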