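import Groth.Agent.SteinBound.Alg
import Groth.Agent.Radicial.Stein
import Groth.Prelude.Def_ega3

/-!
# Connected components of fibres of proper morphisms of integral schemes
-/

set_option autoImplicit false
set_option linter.style.haveILetI false
set_option linter.unusedSectionVars false
set_option backward.isDefEq.respectTransparency false
set_option backward.isDefEq.respectTransparency.types false
set_option maxHeartbeats 1000000

universe u

open CategoryTheory CategoryTheory.Limits AlgebraicGeometry TopologicalSpace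

noncomputable section

namespace Groth.Agent.SteinBound

variable {X N Y : Scheme.{u}}

/-- Fibre components are bounded by the points of an intermediate scheme with connected fibres. -/
theorem mk_components_le (g : X ⟶ N) [Surjective g] [GeometricallyConnected g] (h : N ⟶ Y) (y : Y) :
    Cardinal.mk (_root_.ConnectedComponents ↥((g ≫ h).fiber y)) ≤ Cardinal.mk ↥(h ⁻¹' {y}) := by
  choose s hs using fun n : ↥(h ⁻¹' {y}) => g.surjective n.1
  let e := (g ≫ h).fiberHomeo y
  have hs' : ∀ n, (g ≫ h) (s n) = y := fun n => by rw [Scheme.Hom.comp_apply, hs n]; exact n.2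
  let ψ : ↥(h ⁻¹' {y}) → _root_.ConnectedComponents ↥((g ≫ h).fiber y) :=
    fun n => ConnectedComponents.mk (e.symm ⟨s n, hs' n⟩)
  refine Cardinal.mk_le_of_surjective (f := ψ) fun c => ?_
  obtain ⟨z, rfl⟩ := ConnectedComponents.surjective_coe c
  let n : ↥(h ⁻¹' {y}) := ⟨g (e z).1, by
    show h (g (e z).1) = y
    rw [← Scheme.Hom.comp_apply]
    exact (e z).2⟩
  refine ⟨n, ?_⟩
  have hS : _root_.IsPreconnected (g ⁻¹' {n.1}) := by
    rw [← g.range_fiberι n.1]
    exact isPreconnected_range (g.fiberι n.1).continuous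
  have hsub : g ⁻¹' {n.1} ⊆ (g ≫ h) ⁻¹' {y} := fun x hx => by
    show (g ≫ h) x = y
    rw [Scheme.Hom.comp_apply, show g x = n.1 from hx]
    exact n.2
  have hT : _root_.IsPreconnected (Subtype.val ⁻¹' (g ⁻¹' {n.1}) : Set ↥((g ≫ h) ⁻¹' {y})) := by
    rw [← Topology.IsInducing.subtypeVal.isPreconnected_image, Subtype.image_preimage_coe,
      Set.inter_eq_right.2 hsub]
    exact hS
  have hU := hT.image _ e.symm.continuous.continuousOn
  rw [ConnectedComponents.coe_eq_coe']
  refine hU.subset_connectedComponent ?_ (Set.mem_image_of_mem _ (show g (s n) = n.1 from hs n))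
  exact ⟨e z, rfl, e.symm_apply_apply z⟩

/-- Points of a finite dominated scheme inject into the maximal ideals of the integral closure in the function
field. -/
theorem mk_preimage_le [IsIntegral X] [IsIntegral N] (g : X ⟶ N) (h : N ⟶ Y) [IsIntegralHom h]
    (hg : g (genericPoint X) = genericPoint N) (y : Y) (hy : (g ≫ h).base (genericPoint X) ⤳ y) :
    Cardinal.mk ↥(h ⁻¹' {y}) ≤ Cardinal.mk (MaximalSpectrum ↥(CohIII.integralClosureStalk (g ≫ h) y hy)) := by
  obtain ⟨U, hU, hyU, -⟩ := exists_isAffineOpen_mem_and_subset (x := y) (U := ⊤) trivial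
  let V := h ⁻¹ᵁ U
  have hV : IsAffineOpen V := hU.preimage h
  let φ := CohIII.stalkToFunctionField (g ≫ h) y hy
  letI : Algebra (Y.presheaf.stalk y) X.functionField := φ.toAlgebra
  let B := CohIII.integralClosureStalk (g ≫ h) y hy
  have hmem : ∀ n : ↥(h ⁻¹' {y}), n.1 ∈ V := fun n => show h n.1 ∈ U from (show h n.1 = y from n.2).symm ▸ hyU
  have hsp : ∀ n : N, g.base (genericPoint X) ⤳ n := fun n =>
    hg ▸ (genericPoint_spec N).specializes (Set.mem_univ n)
  let θ : ∀ n : N, N.presheaf.stalk n →+* X.functionField := fun n =>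
    CohIII.stalkToFunctionField g n (hsp n)
  have hηU : (g ≫ h) (genericPoint X) ∈ U := hy.mem_open U.isOpen hyU
  have hηV : genericPoint X ∈ g ⁻¹ᵁ V := hηU
  let ρ : Γ(N, V) →+* X.functionField :=
    (X.presheaf.germ (g ⁻¹ᵁ V) (genericPoint X) hηV).hom.comp (g.app V).hom
  have hθ : ∀ (n : ↥(h ⁻¹' {y})) (c : Γ(N, V)), θ n.1 (N.presheaf.germ V n.1 (hmem n) c) = ρ c := fun n c => by
    show g.stalkMap (genericPoint X) (N.presheaf.stalkSpecializes (hsp n.1) (N.presheaf.germ V _ (hmem n) c)) = _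
    rw [TopCat.Presheaf.germ_stalkSpecializes_apply]
    exact g.germ_stalkMap_apply V (genericPoint X) _ c
  have hρφ : ∀ a : Γ(Y, U), ρ (h.app U a) = φ (Y.presheaf.germ U y hyU a) := fun a => by
    show _ = (g ≫ h).stalkMap (genericPoint X) (Y.presheaf.stalkSpecializes hy (Y.presheaf.germ U _ hyU a))
    rw [TopCat.Presheaf.germ_stalkSpecializes_apply]
    exact ((g ≫ h).germ_stalkMap_apply U (genericPoint X) hηU a).symm
  have hρB : ∀ c : Γ(N, V), ρ c ∈ B := fun c => by
    obtain ⟨P, hP, hP0⟩ := (IsIntegralHom.isIntegral_app h U hU) c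
    refine ⟨P.map (Y.presheaf.germ U y hyU).hom, hP.map _, ?_⟩
    rw [Polynomial.eval₂_map,
      show (algebraMap (Y.presheaf.stalk y) X.functionField).comp (Y.presheaf.germ U y hyU).hom =
        ρ.comp (h.app U).hom from RingHom.ext fun a => (hρφ a).symm,
      ← Polynomial.hom_eval₂, hP0, map_zero]
  choose Vv hVv using fun n : ↥(h ⁻¹' {y}) =>
    LocalSubring.exists_le_valuationSubring (LocalSubring.range (θ n.1))
  have hcentre : ∀ (n : ↥(h ⁻¹' {y})) (x : N.presheaf.stalk n.1),
      ∃ hx : θ n.1 x ∈ Vv n, IsUnit (⟨_, hx⟩ : Vv n) ↔ IsUnit x := fun n x => by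
    obtain ⟨hle, hloc⟩ := hVv n
    refine ⟨hle ⟨x, rfl⟩, ?_⟩
    constructor
    · intro hu
      obtain ⟨v, hv⟩ := (isUnit_of_map_unit (Subring.inclusion hle)
        (⟨θ n.1 x, ⟨x, rfl⟩⟩ : (θ n.1).range) hu).exists_right_inv
      obtain ⟨v, x', rfl⟩ := v
      have h2 : θ n.1 (x * x') = 1 := by rw [map_mul]; exact congrArg Subtype.val hv
      by_contra hx
      have hm : x * x' ∈ IsLocalRing.maximalIdeal _ := Ideal.mul_mem_right _ _ hx
      have h3 : IsUnit (x * x' - 1) := by
        have := (IsLocalRing.isUnit_one_sub_self_of_mem_nonunits _ hm).neg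
        rwa [neg_sub] at this
      exact (h3.map (θ n.1)).ne_zero (by rw [map_sub, h2, map_one, sub_self])
    · intro hu
      exact (hu.map (θ n.1).rangeRestrict).map (Subring.inclusion hle)
  have hA : ∀ (n : ↥(h ⁻¹' {y})) (a : Y.presheaf.stalk y), ∃ x : N.presheaf.stalk n.1,
      θ n.1 x = φ a ∧ (IsUnit x → IsUnit a) := fun n a => by
    obtain ⟨n, hn⟩ := n
    change h n = y at hn
    subst hn
    refine ⟨h.stalkMap n a, ?_, fun hu => isUnit_of_map_unit (h.stalkMap n).hom a hu⟩
    obtain ⟨W, hW, b, rfl⟩ := Y.presheaf.exists_germ_eq a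
    show g.stalkMap (genericPoint X) (N.presheaf.stalkSpecializes (hsp n) (h.stalkMap n _)) = _
    rw [Scheme.Hom.germ_stalkMap_apply, TopCat.Presheaf.germ_stalkSpecializes_apply,
      Scheme.Hom.germ_stalkMap_apply]
    show _ = (g ≫ h).stalkMap (genericPoint X) (Y.presheaf.stalkSpecializes hy (Y.presheaf.germ W _ hW b))
    rw [TopCat.Presheaf.germ_stalkSpecializes_apply, Scheme.Hom.germ_stalkMap_apply]
    rfl
  have hBV : ∀ (n : ↥(h ⁻¹' {y})), B ≤ (Vv n).toSubring := fun n x hx => by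
    obtain ⟨P, hP, hP0⟩ := hx
    have hrange : ∀ a : Y.presheaf.stalk y, φ a ∈ (Vv n) := fun a => by
      obtain ⟨x, hx, -⟩ := hA n a
      exact hx ▸ (hcentre n x).1
    exact LocalSubring.mem_of_isMax_of_isIntegral (R := (Vv n).toLocalSubring)
      (ValuationSubring.isMax_toLocalSubring _) ⟨P.map (φ.codRestrict (Vv n).toSubring hrange), hP.map _, by
        rw [Polynomial.eval₂_map]
        exact hP0⟩
  let Pn : ↥(h ⁻¹' {y}) → Ideal ↥B := fun n =>
    (IsLocalRing.maximalIdeal (Vv n)).comap (Subring.inclusion (hBV n))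
  have hmax : ∀ n, (Pn n).IsMaximal := fun n => by
    haveI : (Pn n).IsPrime := Ideal.IsPrime.comap _
    letI : Algebra (Y.presheaf.stalk y) ↥B := (φ.codRestrict B fun a =>
      (isIntegral_algebraMap : IsIntegral (Y.presheaf.stalk y) (algebraMap _ X.functionField a))).toAlgebra
    haveI : Algebra.IsIntegral (Y.presheaf.stalk y) ↥B := ⟨fun x => by
      obtain ⟨P, hP, hP0⟩ := x.2
      refine ⟨P, hP, Subtype.ext ?_⟩
      exact (Polynomial.hom_eval₂ P _ B.subtype x).trans hP0⟩
    refine Ideal.isMaximal_of_isIntegral_of_isMaximal_comap (R := Y.presheaf.stalk y) _ ?_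
    haveI : ((Pn n).comap (algebraMap (Y.presheaf.stalk y) ↥B)).IsPrime := Ideal.IsPrime.comap _
    have hle : IsLocalRing.maximalIdeal (Y.presheaf.stalk y) ≤ (Pn n).comap (algebraMap _ ↥B) := fun a ha => by
      obtain ⟨x, hx, hxu⟩ := hA n a
      obtain ⟨hx', hiff⟩ := hcentre n x
      intro hu
      refine ha (hxu (hiff.1 ?_))
      convert hu using 1
      exact Subtype.ext hx
    rw [← (IsLocalRing.maximalIdeal.isMaximal _).eq_of_le (Ideal.IsPrime.ne_top inferInstance) hle]
    exact IsLocalRing.maximalIdeal.isMaximal _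
  refine Cardinal.mk_le_of_injective (f := fun n => (⟨Pn n, hmax n⟩ : MaximalSpectrum ↥B)) fun n n' hnn => ?_
  have hP : Pn n = Pn n' := congrArg MaximalSpectrum.asIdeal hnn
  have hkey : ∀ (n : ↥(h ⁻¹' {y})) (c : Γ(N, V)),
      c ∈ (hV.primeIdealOf ⟨n.1, hmem n⟩).asIdeal ↔ (⟨ρ c, hρB c⟩ : ↥B) ∈ Pn n := fun n c => by
    obtain ⟨hx', hiff⟩ := hcentre n (N.presheaf.germ V n.1 (hmem n) c)
    rw [hV.primeIdealOf_eq_map_closedPoint]
    show ¬ IsUnit (N.presheaf.germ V n.1 (hmem n) c) ↔ ¬ IsUnit (Subring.inclusion (hBV n) ⟨ρ c, hρB c⟩)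
    rw [← hiff]
    refine not_congr (Iff.of_eq (congrArg IsUnit (Subtype.ext (hθ n c))))
  have hq : hV.primeIdealOf ⟨n.1, hmem n⟩ = hV.primeIdealOf ⟨n'.1, hmem n'⟩ :=
    PrimeSpectrum.ext (Ideal.ext fun c => by rw [hkey n, hkey n', hP])
  exact Subtype.ext ((hV.fromSpec_primeIdealOf ⟨n.1, hmem n⟩).symm.trans
    ((congrArg hV.fromSpec hq).trans (hV.fromSpec_primeIdealOf ⟨n'.1, hmem n'⟩)))

end Groth.Agent.SteinBound
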